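import Groth.Agent.EtLimLib.Hpull
import Groth.Agent.EtLimLib.ConstSys
import Groth.Agent.S6634
import Groth.Agent.ZC.Components

/-!
# Cohomology classes along finite étale maps
-/

set_option autoImplicit false
set_option backward.isDefEq.respectTransparency false
set_option backward.isDefEq.respectTransparency.types false
set_option linter.style.haveILetI false
set_option maxHeartbeats 800000
set_option synthInstance.maxHeartbeats 400000

universe u

open CategoryTheory CategoryTheory.Limits AlgebraicGeometry Opposite GrothendieckTopology CategoryTheory.Abelian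

noncomputable section

namespace Groth.Agent.KPi1Lib

/-- A finite cover by an open, closed map has finitely many connected components. -/
theorem finite_connectedComponents_cover {A B : Type*} [TopologicalSpace A] [TopologicalSpace B]
    [Finite (_root_.ConnectedComponents B)] (φ : A → B) (ho : IsOpenMap φ) (hc : IsClosedMap φ)
    (hfin : ∀ b, (φ ⁻¹' {b}).Finite) : Finite (_root_.ConnectedComponents A) := by
  choose b hb using (ConnectedComponents.surjective_coe : Function.Surjective ((↑) : B → ConnectedComponents B))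
  haveI : ∀ c, Finite (φ ⁻¹' {b c}) := fun c => (hfin _).to_subtype
  refine (ZC.finite_connectedComponents (d := Nat.card (Σ c, φ ⁻¹' {b c})) fun n g hg => ?_).1
  have h : ∀ i, ∃ x : Σ c, φ ⁻¹' {b c}, g x.2 = i := fun i => by
    obtain ⟨a, ha⟩ := hg i
    have hV : IsClopen (φ '' (g ⁻¹' {i})) :=
      ⟨hc _ (g.isLocallyConstant.isClosed_fiber i), ho _ (g.isLocallyConstant.isOpen_fiber i)⟩
    obtain ⟨x, hx, hxb⟩ : b (φ a) ∈ φ '' (g ⁻¹' {i}) := hV.connectedComponent_subset ⟨a, ha, rfl⟩
      (by rw [← ConnectedComponents.coe_eq_coe.1 (hb (φ a))]; exact mem_connectedComponent)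
    exact ⟨⟨_, x, hxb⟩, hx⟩
  choose x hx using h
  exact (Nat.card_fin n).symm.le.trans (Nat.card_le_card_of_injective x fun i j hij => by rw [← hx i, hij, hx j])

/-- Classes on a finite scheme over `Y` come from the direct image. -/
theorem exists_HpullThen_counit {X Y : Scheme.{u}} (f : X ⟶ Y) [IsIntegralHom f]
    [PreservesFiniteLimits (EtCoh.pull f)] : ∀ (n : ℕ) (F : EtCoh.Ab X) (ξ : EtCoh.H X F n),
      ∃ x : EtCoh.H Y ((EtCoh.push f).obj F) n,
        EtLim.HpullThen f ((EtCoh.push f).obj F) ((EtCoh.pullPushAdj f).counit.app F) n x = ξ := by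
  haveI : PreservesFiniteColimits (EtCoh.push f) := by
    haveI : (EtCoh.push f).PreservesEpimorphisms := S6634.result f
    haveI : (EtCoh.push f).IsRightAdjoint := (EtCoh.pullPushAdj f).isRightAdjoint
    haveI : (EtCoh.push f).PreservesHomology := Functor.preservesHomology_of_preservesEpis_and_kernels _
    exact Functor.preservesFiniteColimits_of_preservesHomology _
  haveI : PreservesFiniteLimits (EtCoh.push f) :=
    haveI := (EtCoh.pullPushAdj f).rightAdjoint_preservesLimits.{0, 0}
    PreservesLimitsOfSize.preservesFiniteLimits _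
  haveI : (EtCoh.push f).Additive := Functor.additive_of_preserves_binary_products _
  let ε := (EtCoh.pullPushAdj f).counit
  intro n
  induction n with
  | zero =>
    intro F ξ
    let s := Sheaf.H.equiv₀ F (EtCore.topIsTerminal X) ξ
    refine ⟨(Sheaf.H.equiv₀ _ (EtCore.topIsTerminal Y)).symm (F.obj.map (EtCore.bcTopIso f).hom.op s),
      (Sheaf.H.equiv₀ F (EtCore.topIsTerminal X)).injective ?_⟩
    refine (EtLimLib.equiv₀_HpullThen f _ _).trans ?_
    rw [AddEquiv.apply_symm_apply]
    rw [show (EtCoh.pullPushAdj f).homEquiv ((EtCoh.push f).obj F) F ((EtCoh.pullPushAdj f).counit.app F) = 𝟙 _ from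
      (Adjunction.homEquiv_unit _ _ _ _).trans ((EtCoh.pullPushAdj f).right_triangle_components F)]
    exact ConcreteCategory.congr_hom (F.obj.mapIso (EtCore.bcTopIso f).op).hom_inv_id s
  | succ n ih =>
    intro F ξ
    let P := ShortComplex.mk (Injective.ι F) (cokernel.π (Injective.ι F)) (cokernel.condition _)
    have hP : P.ShortExact := { exact := ShortComplex.exact_cokernel _, mono_f := Injective.ι_mono F }
    haveI : Injective P.X₂ := inferInstanceAs (Injective (Injective.under F))
    obtain ⟨y, rfl⟩ := Ext.covariant_sequence_exact₁ _ hP ξ (Ext.eq_zero_of_injective _) (rfl : n + 1 = n + 1)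
    obtain ⟨x, rfl⟩ := ih P.X₃ y
    let φ : (P.map (EtCoh.push f)).map (EtCoh.pull f) ⟶ P :=
      { τ₁ := ε.app P.X₁, τ₂ := ε.app P.X₂, τ₃ := ε.app P.X₃
        comm₁₂ := (ε.naturality P.f).symm, comm₂₃ := (ε.naturality P.g).symm }
    exact ⟨x.comp (hP.map_of_exact (EtCoh.push f)).extClass rfl,
      EtLimLib.HpullThen_extClass f (hP.map_of_exact (EtCoh.push f)) hP φ x⟩

theorem Hpull_eq_zero_of_HpullThen {X Y : Scheme.{u}} (f : X ⟶ Y) [PreservesFiniteLimits (EtCoh.pull f)]
    {F : EtCoh.Ab Y} {M : EtCoh.Ab X} (α : (EtCoh.pull f).obj F ⟶ M) [IsIso α] (n : ℕ) (x : EtCoh.H Y F n)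
    (h : EtLim.HpullThen f F α n x = 0) : EtCore.Hpull f F n x = 0 :=
  (ConcreteCategory.bijective_of_isIso ((EtCoh.HF X n).map α)).1 (h.trans (map_zero _).symm)

theorem HpullThen_id' {X Y : Scheme.{u}} (f : X ⟶ Y) [PreservesFiniteLimits (EtCoh.pull f)] (F : EtCoh.Ab Y) (n : ℕ)
    (x : EtCoh.H Y F n) : EtLim.HpullThen f F (𝟙 _) n x = EtCore.Hpull f F n x := by
  rw [EtLimLib.HpullThen_apply, Ext.comp_mk₀_id]
  rfl

/-- Pulling back along a composite. -/
theorem Hpull_comp_eq_zero {A B C : Scheme.{u}} (g : B ⟶ A) (f : C ⟶ B) (h : C ⟶ A) (w : f ≫ g = h)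
    [PreservesFiniteLimits (EtCoh.pull g)] [PreservesFiniteLimits (EtCoh.pull f)]
    [PreservesFiniteLimits (EtCoh.pull h)] (F : EtCoh.Ab A) (n : ℕ) (x : EtCoh.H A F n) :
    EtCore.Hpull h F n x = 0 ↔ EtCore.Hpull f _ n (EtCore.Hpull g F n x) = 0 := by
  rw [← HpullThen_id' g F, ← HpullThen_id' f, ← EtLimLib.HpullThen_comparePull g f h w n F x]
  haveI := EtLimLib.isIso_comparePull g f h w F
  refine ⟨fun hx => ?_, Hpull_eq_zero_of_HpullThen h _ n x⟩
  show ((EtCoh.HF C n).map _).hom (EtCore.Hpull h F n x) = 0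
  rw [hx, map_zero]

end Groth.Agent.KPi1Lib
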