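import Groth.Agent.CdpLib.Reduce
import Groth.Agent.S6645
import Groth.Agent.S0007

/-!
# `p`-primary locally constant sheaves on connected affine schemes of characteristic `p`
-/

set_option autoImplicit false
set_option backward.isDefEq.respectTransparency false
set_option backward.isDefEq.respectTransparency.types false
set_option linter.style.haveILetI false
set_option maxHeartbeats 800000
set_option synthInstance.maxHeartbeats 400000

universe u

open CategoryTheory CategoryTheory.Limits AlgebraicGeometry Opposite CategoryTheory.Abelian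

noncomputable section

namespace Groth.Agent.KPi1Lib

open CdpLib

variable (p : ℕ) [hp : Fact p.Prime] {X : Scheme.{u}} [IsAffine X]

omit hp in
theorem qcVanish_affine (T : Scheme.{u}) [IsAffine T] : QCVanish T 0 := fun M hM q hq =>
  haveI := hM
  S0007.result T M q hq

variable [ConnectedSpace X]

/-- Locally constant sheaves killed by `p`. -/
theorem subsingleton_H_killed (h0 : (p : Γ(X, ⊤)) = 0) (F : EtCoh.Ab X) (hF : EtCoh.IsFiniteLocallyConstant F)
    (hk : EtCoh.KilledBy p F) (q : ℕ) (hq : 1 < q) : Subsingleton (EtCoh.H X F q) := by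
  obtain ⟨T, f, hf, he, m, hm, hcard, n, G, φ, h0G, ⟨eG⟩, hG⟩ := S0657.result X p F hF hk
  haveI := hf
  haveI := he
  haveI := EtJCont.jCont f
  haveI : IsAffine T := isAffine_of_isAffineHom f
  have hdeg : EtTraceLib.HasDegree f m := fun Ω _ _ ξ => (card_pullback_eq f Ω ξ).trans (hcard Ω ξ)
  haveI : PreservesFiniteColimits (EtCoh.push f) := by
    haveI : (EtCoh.push f).PreservesEpimorphisms := S6634.result f
    haveI : (EtCoh.push f).IsRightAdjoint := (EtCoh.pullPushAdj f).isRightAdjoint
    haveI : (EtCoh.push f).PreservesHomology := Functor.preservesHomology_of_preservesEpis_and_kernels _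
    exact Functor.preservesFiniteColimits_of_preservesHomology _
  haveI : PreservesFiniteLimits (EtCoh.push f) :=
    haveI := (EtCoh.pullPushAdj f).rightAdjoint_preservesLimits.{0, 0}
    PreservesLimitsOfSize.preservesFiniteLimits _
  haveI : (EtCoh.push f).Additive := Functor.additive_of_preserves_binary_products _
  have hconst : Subsingleton (EtCoh.H X ((EtCoh.push f).obj (EtCoh.const T (ZMod p))) q) := by
    obtain ⟨e⟩ := EtVanish.nonempty_H_push_equiv f (EtCoh.const T (ZMod p)) q
    haveI := subsingleton_H_const p (T := T) (by rw [← map_natCast f.appTop.hom p, h0, map_zero])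
      (qcVanish_affine T) q hq
    exact e.toEquiv.subsingleton
  haveI := subsingleton_H_of_chain (EtCoh.push f) _ q hconst n G φ h0G hG
  haveI hpush : Subsingleton (EtCoh.H X ((EtCoh.push f).obj ((EtShriek.restrAlong f).obj F)) q) :=
    subsingleton_H_of_iso ((EtCoh.push f).mapIso ((EtPtsLib.pullIsoRestr f).symm.app F ≪≫ eG.symm)) q
  refine subsingleton_of_forall_eq 0 fun x => ?_
  have hdx : m • x = 0 := by
    have h1 : x.comp (Ext.mk₀ ((EtPtsLib.restrPushAdj f).unit.app F ≫ (EtTraceLib.tr f).app F)) (add_zero q) = 0 := by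
      rw [← Ext.mk₀_comp_mk₀, ← Ext.comp_assoc_of_second_deg_zero,
        hpush.elim (x.comp (Ext.mk₀ ((EtPtsLib.restrPushAdj f).unit.app F)) (add_zero q)) 0, Ext.zero_comp]
    rw [EtTraceLib.unit_tr f hdeg F] at h1
    let c₀ := AddMonoidHom.mk' (fun r : Ext F F 0 => x.comp r (add_zero q)) fun _ _ => Ext.comp_add _ _ _ _
    have h2 : c₀ (Ext.addEquiv₀.symm (m • 𝟙 F)) = 0 := h1
    rw [map_nsmul, map_nsmul] at h2
    exact (congrArg (m • ·) (Ext.comp_mk₀_id x).symm).trans h2
  have hpx : p • x = 0 := EtTraceLib.nsmul_ext_eq_zero ((FLCLib.killedBy_iff _ _).1 hk) x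
  exact AddMonoid.addOrderOf_eq_one_iff.1 (Nat.eq_one_of_dvd_coprimes hm.symm
    (addOrderOf_dvd_iff_nsmul_eq_zero.2 hdx) (addOrderOf_dvd_iff_nsmul_eq_zero.2 hpx))

/-- Locally constant sheaves killed by a power of `p`. -/
theorem subsingleton_H_killed_pow (h0 : (p : Γ(X, ⊤)) = 0) (q : ℕ) (hq : 1 < q) :
    ∀ (a : ℕ) (F : EtCoh.Ab X), EtCoh.IsFiniteLocallyConstant F → EtCoh.KilledBy (p ^ a) F →
      Subsingleton (EtCoh.H X F q) := by
  intro a
  induction a with
  | zero =>
    intro F _ hk
    rw [FLCLib.killedBy_iff, pow_zero, one_nsmul] at hk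
    exact subsingleton_H_of_isZero ((IsZero.iff_id_eq_zero F).2 hk) q
  | succ a ih =>
    intro F hF hk
    let φ : F ⟶ F := p • 𝟙 F
    let S : ShortComplex (EtCoh.Ab X) :=
      ShortComplex.mk (kernel.ι (cokernel.π φ)) (cokernel.π φ) (kernel.condition _)
    have hS : S.ShortExact := { exact := ShortComplex.exact_of_f_is_kernel S (kernelIsKernel _) }
    have hc := ((S6645.result X).1 F F φ hF hF).2
    refine shortExact_middle hS q (ih _ ((S6645.result X).1 F _ (cokernel.π φ) hF hc).1 ?_)
      (subsingleton_H_killed p h0 _ hc ?_ q hq)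
    · rw [FLCLib.killedBy_iff] at hk ⊢
      let e : F ⟶ kernel (cokernel.π φ) := Abelian.factorThruImage φ
      have he : e ≫ kernel.ι (cokernel.π φ) = φ := Abelian.image.fac φ
      haveI : Epi e := inferInstanceAs (Epi (Abelian.factorThruImage φ))
      rw [← cancel_epi e, comp_zero, Preadditive.comp_nsmul, Category.comp_id, ← cancel_mono (kernel.ι (cokernel.π φ)),
        zero_comp, Preadditive.nsmul_comp, he, smul_smul, ← pow_succ, hk]
    · rw [FLCLib.killedBy_iff, ← cancel_epi (cokernel.π φ), comp_zero, Preadditive.comp_nsmul, Category.comp_id,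
        ← Category.id_comp (cokernel.π φ), ← Preadditive.nsmul_comp]
      exact cokernel.condition φ

end Groth.Agent.KPi1Lib
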