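import Groth.Agent.EtH1Lib.Torsor
import Groth.Agent.EtLimLib.Hpull

/-!
# Classes of degree one die on finite étale coverings
-/

set_option autoImplicit false
set_option backward.isDefEq.respectTransparency false
set_option backward.isDefEq.respectTransparency.types false
set_option linter.style.haveILetI false
set_option maxHeartbeats 800000

universe u

open CategoryTheory CategoryTheory.Limits AlgebraicGeometry Opposite GrothendieckTopology CategoryTheory.Abelian

noncomputable section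

namespace Groth.Agent.KPi1Lib

variable {Z : Scheme.{u}}

theorem HpullThen_id {X : Scheme.{u}} (f : X ⟶ Z) [PreservesFiniteLimits (EtCoh.pull f)] (F : EtCoh.Ab Z) (n : ℕ)
    (x : EtCoh.H Z F n) : EtLim.HpullThen f F (𝟙 _) n x = EtCore.Hpull f F n x := by
  rw [EtLimLib.HpullThen_apply, Ext.comp_mk₀_id]
  rfl

/-- A class of degree one with finite locally constant coefficients dies on a finite étale covering. -/
theorem exists_kill_H1 (F : EtCoh.Ab Z) (hF : EtCoh.IsFiniteLocallyConstant F) (ζ : EtCoh.H Z F 1) :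
    ∃ (Z' : Scheme.{u}) (g : Z' ⟶ Z), IsFinite g ∧ AlgebraicGeometry.Etale g ∧ Surjective g ∧
      ∀ [PreservesFiniteLimits (EtCoh.pull g)], EtCore.Hpull g F 1 ζ = 0 := by
  let P := ShortComplex.mk (Injective.ι F) (cokernel.π (Injective.ι F)) (cokernel.condition _)
  have hP : P.ShortExact := { exact := ShortComplex.exact_of_g_is_cokernel P (cokernelIsCokernel _) }
  haveI : Injective P.X₂ := Injective.injective_under F
  obtain ⟨y, rfl⟩ := Ext.covariant_sequence_exact₁ _ hP ζ (Ext.eq_zero_of_injective _) (zero_add 1)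
  let q := Sheaf.H.equiv₀ P.X₃ (EtCore.topIsTerminal Z) y
  obtain ⟨T, hfin, hsurj, t, ht⟩ := EtH1Lib.exists_cover_lift hP hF q
  let g : T.left ⟶ Z := T.hom
  haveI : AlgebraicGeometry.Etale g := T.prop
  refine ⟨T.left, g, hfin, ‹_›, hsurj, ?_⟩
  intro hg
  haveI : PreservesFiniteLimits (EtCoh.pull g) := hg
  let u := (EtCoh.pullPushAdj g).unit
  let δ : EtCoh.top T.left ⟶ (EtCoh.bc g).obj T :=
    MorphismProperty.Over.homMk (pullback.lift (𝟙 T.left) (𝟙 T.left) rfl) (pullback.lift_snd _ _ _)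
  let s : EtCoh.sect ((EtCoh.pull g).obj P.X₂) (EtCoh.top T.left) :=
    ((EtCoh.pull g).obj P.X₂).obj.map δ.op ((u.app P.X₂).hom.app (op T) t)
  rw [← HpullThen_id]
  refine EtLimLib.HpullThen_eq_zero_of_lift g hP (hP.map_of_exact (EtCoh.pull g)) (𝟙 _) y
    ((Sheaf.H.equiv₀ ((EtCoh.pull g).obj P.X₂) (EtCore.topIsTerminal T.left)).symm s) ?_
  apply (Sheaf.H.equiv₀ ((EtCoh.pull g).obj P.X₃) (EtCore.topIsTerminal T.left)).injective
  refine (EtLimLib.equiv₀_HpullThen g (𝟙 _) y).trans ?_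
  rw [Adjunction.homEquiv_id]
  refine Eq.trans ?_ (Sheaf.H.equiv₀_naturality (EtCore.topIsTerminal T.left) ((EtCoh.pull g).map P.g) _)
  rw [AddEquiv.apply_symm_apply]
  let K := (EtCoh.pull g).obj P.X₃
  let r := (EtCore.topIsTerminal Z).from T
  have e1 : K.obj.map ((EtCoh.bc g).map r).op ((u.app P.X₃).hom.app (op (EtCoh.top Z)) q) =
      (u.app P.X₃).hom.app (op T) (P.X₃.obj.map r.op q) :=
    (NatTrans.naturality_apply (u.app P.X₃).hom r.op q).symm
  have e2 : ((EtCoh.pull g).map P.g).hom.app (op ((EtCoh.bc g).obj T)) ((u.app P.X₂).hom.app (op T) t) =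
      (u.app P.X₃).hom.app (op T) (P.g.hom.app (op T) t) :=
    ConcreteCategory.congr_hom (congrArg (fun m => m.hom.app (op T)) (u.naturality P.g).symm) t
  show K.obj.map (EtCore.bcTopIso g).inv.op ((u.app P.X₃).hom.app (op (EtCoh.top Z)) q) =
    ((EtCoh.pull g).map P.g).hom.app (op (EtCoh.top T.left))
      (((EtCoh.pull g).obj P.X₂).obj.map δ.op ((u.app P.X₂).hom.app (op T) t))
  rw [show ((EtCoh.pull g).map P.g).hom.app (op (EtCoh.top T.left))
      (((EtCoh.pull g).obj P.X₂).obj.map δ.op ((u.app P.X₂).hom.app (op T) t)) =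
      K.obj.map δ.op (((EtCoh.pull g).map P.g).hom.app (op ((EtCoh.bc g).obj T)) ((u.app P.X₂).hom.app (op T) t)) from
    NatTrans.naturality_apply ((EtCoh.pull g).map P.g).hom δ.op _]
  refine Eq.trans ?_ (congrArg (K.obj.map δ.op) (e1.trans ((congrArg ((u.app P.X₃).hom.app (op T)) ht.symm).trans e2.symm)))
  refine Eq.trans ?_ (ConcreteCategory.congr_hom (K.obj.map_comp ((EtCoh.bc g).map r).op δ.op) _)
  refine congrArg (fun m => K.obj.map m ((u.app P.X₃).hom.app (op (EtCoh.top Z)) q)) ?_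
  rw [← op_comp]
  exact congrArg Quiver.Hom.op ((cancel_mono (EtCore.bcTopIso g).hom).1 ((EtCore.topIsTerminal T.left).hom_ext _ _))

end Groth.Agent.KPi1Lib
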